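import Cfsg.Agent.H708.E7O.Transfer
import Cfsg.Agent.H460.IFO.Field
import Cfsg.Agent.H460.IFO.Fac
import Cfsg.Agent.H824.E7.AutD
import Cfsg.Agent.BpExc.Asm

/-!
# S5719, `E₇(q)`, `|A|` odd: reduction to the centralisers in the group over the closure (helper708)

`k` the algebraic closure of `F`, `φ` the Frobenius map of `F` on `Y = chevE7.group k`, `e : chevE7.group F → Y`.
* `exists_x` : `σ = conj y * d`, `σ² = 1`: `σ` is conjugation by `x ∈ Y^φ`, `x² = 1`;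
* `mul_mem_range` : `|Y^φ : e (chevE7.group F)| ≤ 2`;
* `e7_of_box` : the cell from the bound `q ^ 28 ≤ |C_Y(x)^φ : X|`, `|X|` odd.
-/

set_option autoImplicit false
set_option linter.unusedSectionVars false

namespace Cfsg.Agent.H708.E7O

open CoxeterSystem Subgroup Cfsg Cfsg.Lie Cfsg.Lie.ChevalleyDatum
open Cfsg.Agent.ChevalleyStructure Cfsg.Agent.ChevalleyStructure.Elts Cfsg.Agent.ChevalleyStructure.CoxeterGeomTypes
open Cfsg.Agent.ChevalleyStructure.CoxeterGeom Cfsg.Agent.Nodes.RGDChev Cfsg.Agent.KFacts.RgdChevCoord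
open Cfsg.Agent.CpAut.RgdUntw
open Cfsg.Agent.GpExc.Field (emb coe_emb coe_glMap emb_injective)
open Cfsg.Agent.BpExc.FamExt Cfsg.Agent.BpExc.FamInst Cfsg.Agent.BpExc.TowChev Cfsg.Agent.BpExc.Tow
open Cfsg.Agent.H129.TorusUntw
open Cfsg.Agent.H209.Fxy Cfsg.Agent.H249.Pi.FldType Cfsg.Agent.BpExc.Pair
open Cfsg.Agent.H824.E7.Aut (V7 nf adj)
open Cfsg.Agent.H35.ExcIdx (hpE7)

universe u

variable {F : Type u} [Field F] [Fintype F] (r : ℕ) [Fact r.Prime] [CharP F r] {e : ℕ}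

/-- the closure -/
abbrev kk (F : Type u) [Field F] := AlgebraicClosure F

/-- the embedding -/
noncomputable abbrev ee (F : Type u) [Field F] : ↥(chevE7.group F) →* ↥(chevE7.group (kk F)) :=
  emb hpE7.inList (algebraMap F (kk F))

instance charP_kk : CharP (kk F) r := Cfsg.Agent.H296.Core.charP_closure F r

theorem ee_inj : Function.Injective (ee F) := emb_injective hpE7.inList _

theorem phi_ee (hq : Fintype.card F = r ^ e) (a : ↥(chevE7.group F)) :
    phi chevE7 (kk F) r e (ee F a) = ee F a :=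
  phi_emb hpE7 (algebraMap F (kk F)) hq a

include r in
theorem eq_one_of_comm {z : ↥(chevE7.group (kk F))} (hz : ∀ y, z * ee F y = ee F y * z) : z = 1 := by
  have hk := Cfsg.Agent.H296.Core.locFin_closure F r
  have hE : Ex5 chevE7 := by simp [Ex5]
  exact Cfsg.Agent.BpExc.FamUntw.eq_one_of_comm hpE7 hk r (algebraMap F (kk F)) (hE.center _) hz

/-- **Involutions of inner-diagonal type.** -/
theorem exists_x (hq : Fintype.card F = r ^ e) {σ : MulAut ↥(chevE7.group F)} (hσ : σ * σ = 1)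
    {y : ↥(chevE7.group F)} {d : MulAut ↥(chevE7.group F)} (hd : chevE7.IsDiagonalAut d)
    (hs : σ = MulAut.conj y * d) : ∃ x : ↥(chevE7.group (kk F)), phi chevE7 (kk F) r e x = x ∧ x * x = 1 ∧
      ∀ a, ee F (σ a) = x * ee F a * x⁻¹ := by
  have hE : Ex5 chevE7 := by simp [Ex5]
  obtain ⟨t, -, ht⟩ := Cfsg.Agent.H296.Core.diag_ext hpE7 (algebraMap F (kk F)) Cfsg.Agent.H129.TorusChar.invC_E7 two_ne_zero
    (fun c _ => IsAlgClosed.exists_pow_nat_eq _ two_pos) hd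
  obtain ⟨x, hx⟩ : ∃ x : ↥(chevE7.group (kk F)), x = ee F y * t := ⟨_, rfl⟩
  have h1 : ∀ a, ee F (σ a) = x * ee F a * x⁻¹ := by
    intro a
    have h2 : ee F (d a) = t * ee F a * t⁻¹ := ht a
    rw [hs, MulAut.mul_apply, MulAut.conj_apply, map_mul, map_mul, map_inv, h2, hx]
    group
  refine ⟨x, ?_, ?_, h1⟩
  · have h3 : ∀ a, phi chevE7 (kk F) r e x * ee F a * (phi chevE7 (kk F) r e x)⁻¹ = x * ee F a * x⁻¹ := by
      intro a
      calc phi chevE7 (kk F) r e x * ee F a * (phi chevE7 (kk F) r e x)⁻¹ =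
          phi chevE7 (kk F) r e (x * ee F a * x⁻¹) := by rw [map_mul, map_mul, map_inv, phi_ee r hq]
        _ = ee F (σ a) := by rw [← h1, phi_ee r hq]
        _ = _ := h1 a
    have h4 : x⁻¹ * phi chevE7 (kk F) r e x = 1 := by
      refine eq_one_of_comm (F := F) r fun a => ?_
      have h5 := h3 a
      calc x⁻¹ * phi chevE7 (kk F) r e x * ee F a =
          x⁻¹ * (phi chevE7 (kk F) r e x * ee F a * (phi chevE7 (kk F) r e x)⁻¹) * phi chevE7 (kk F) r e x := by group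
        _ = _ := by rw [h5]; group
    exact (inv_mul_eq_one.1 h4).symm
  · refine eq_one_of_comm (F := F) r fun a => ?_
    have h5 : ee F (σ (σ a)) = x * x * ee F a * (x * x)⁻¹ := by
      rw [h1, h1]
      group
    have h6 : σ (σ a) = a := by
      rw [← MulAut.mul_apply, hσ, MulAut.one_apply]
    rw [h6] at h5
    conv_rhs => rw [h5]
    group

/-- conjugation by `a ∈ Y^φ`: inner, or inner times the standard diagonal automorphism -/
theorem cases_phi (hq : Fintype.card F = r ^ e) {s : F} (hs : ¬ IsSquare s) {a : ↥(chevE7.group (kk F))}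
    (ha : phi chevE7 (kk F) r e a = a) : a ∈ (ee F).range ∨ ∃ (x : ↥(chevE7.group F)) (δ : MulAut ↥(chevE7.group F)),
      V7 δ (Cfsg.Agent.H824.E7.Aut.cs7 s) 1 ∧ ∀ y, ee F (x * δ y * x⁻¹) = a * ee F y * a⁻¹ := by
  obtain ⟨x, ψ, c, hψ, h1⟩ := Cfsg.Agent.H824.E7.Aut.exists_conj (algebraMap F (kk F)) hq ha
  have h1' : ∀ y, ee F (x * ψ y * x⁻¹) = a * ee F y * a⁻¹ := fun y => h1 y
  obtain ⟨z, hz | hz⟩ := nf hψ hs
  · left
    have h2 : MulAut.conj z * ψ = 1 := hz.ext V7.one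
    have h3 : ∀ y, ψ y = z⁻¹ * y * z := by
      intro y
      have h4 : z * ψ y * z⁻¹ = y := DFunLike.congr_fun h2 y
      calc ψ y = z⁻¹ * (z * ψ y * z⁻¹) * z := by group
        _ = _ := by rw [h4]
    refine ⟨x * z⁻¹, ?_⟩
    have h5 : (ee F (x * z⁻¹))⁻¹ * a = 1 := by
      refine eq_one_of_comm (F := F) r fun y => ?_
      have h6 := h1' y
      rw [h3] at h6
      have h7 : a * ee F y * a⁻¹ = ee F (x * z⁻¹) * ee F y * (ee F (x * z⁻¹))⁻¹ := by
        rw [← h6, ← map_inv, ← map_mul, ← map_mul]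
        congr 1
        group
      calc (ee F (x * z⁻¹))⁻¹ * a * ee F y = (ee F (x * z⁻¹))⁻¹ * (a * ee F y * a⁻¹) * a := by group
        _ = _ := by rw [h7]; group
    exact inv_mul_eq_one.1 h5
  · right
    refine ⟨x * z⁻¹, MulAut.conj z * ψ, hz, fun y => ?_⟩
    rw [← h1' y]
    congr 1
    show x * z⁻¹ * (z * ψ y * z⁻¹) * (x * z⁻¹)⁻¹ = _
    group

/-- **`|Y^φ : e T| ≤ 2`.** -/
theorem mul_mem_range (hq : Fintype.card F = r ^ e) (hr : r ≠ 2) {a b : ↥(chevE7.group (kk F))}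
    (ha : phi chevE7 (kk F) r e a = a) (hb : phi chevE7 (kk F) r e b = b) (ha' : a ∉ (ee F).range)
    (hb' : b ∉ (ee F).range) : a * b ∈ (ee F).range := by
  obtain ⟨s, hs⟩ := FiniteField.exists_nonsquare (F := F) (by rwa [(ringChar.eq F r : _)])
  have hab : phi chevE7 (kk F) r e (a⁻¹) = a⁻¹ := by rw [map_inv, ha]
  have ha1 : a⁻¹ ∉ (ee F).range := fun h => ha' (by simpa using inv_mem h)
  obtain ⟨x, δ, hδ, h1⟩ := (cases_phi r hq hs hab).resolve_left ha1
  obtain ⟨x', δ', hδ', h2⟩ := (cases_phi r hq hs hb).resolve_left hb'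
  obtain rfl := hδ'.ext hδ
  refine ⟨δ'⁻¹ (x⁻¹ * x'), ?_⟩
  have h5 : (ee F (δ'⁻¹ (x⁻¹ * x')))⁻¹ * (a * b) = 1 := by
    refine eq_one_of_comm (F := F) r fun y => ?_
    have h3 : ∀ w, a * ee F w * a⁻¹ = ee F (δ'⁻¹ (x⁻¹ * w * x)) := by
      intro w
      have h4 := h1 (δ'⁻¹ (x⁻¹ * w * x))
      rw [MulAut.apply_inv_self] at h4
      have h6 : x * (x⁻¹ * w * x) * x⁻¹ = w := by group
      rw [h6] at h4
      rw [h4]
      group
    have h7 : a * b * ee F y * (a * b)⁻¹ = ee F (δ'⁻¹ (x⁻¹ * x')) * ee F y * (ee F (δ'⁻¹ (x⁻¹ * x')))⁻¹ := by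
      have h8 : a * b * ee F y * (a * b)⁻¹ = a * (b * ee F y * b⁻¹) * a⁻¹ := by group
      rw [h8, ← h2 y, h3, ← map_inv, ← map_mul, ← map_mul]
      congr 1
      have h9 : x⁻¹ * (x' * δ' y * x'⁻¹) * x = (x⁻¹ * x') * δ' y * (x⁻¹ * x')⁻¹ := by group
      rw [h9, map_mul, map_mul, MulAut.inv_apply_self, map_inv]
    calc (ee F (δ'⁻¹ (x⁻¹ * x')))⁻¹ * (a * b) * ee F y =
        (ee F (δ'⁻¹ (x⁻¹ * x')))⁻¹ * (a * b * ee F y * (a * b)⁻¹) * (a * b) := by group
      _ = _ := by rw [h7]; group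
  exact inv_mul_eq_one.1 h5

theorem card_le (F : Type u) [Field F] [Fintype F] : Nat.card ↥(chevE7.group F) ≤ Fintype.card F ^ 133 := by
  have hs : ∀ d, Fintype.card F ^ d - 1 ≤ Fintype.card F ^ d := fun d => Nat.sub_le _ _
  have h1 := Cfsg.Agent.S1064.result (F := F) rfl
  have h3 : Nat.card ↥(chevE7.group F) ≤ Nat.gcd 2 (Fintype.card F - 1) * Nat.card ↥(chevE7.group F) :=
    Nat.le_mul_of_pos_left _ (Nat.gcd_pos_of_pos_left _ (by norm_num))
  refine h3.trans ?_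
  rw [h1]
  calc _ ≤ Fintype.card F ^ 63 * Fintype.card F ^ 2 * Fintype.card F ^ 6 * Fintype.card F ^ 8 * Fintype.card F ^ 10 *
        Fintype.card F ^ 12 * Fintype.card F ^ 14 * Fintype.card F ^ 18 := by gcongr <;> exact hs _
    _ = Fintype.card F ^ 133 := by ring

/-- every automorphism is `conj y * d * φ` -/
theorem fac7 (θ : MulAut ↥(chevE7.group F)) : ∃ (y : ↥(chevE7.group F)) (d φ : MulAut ↥(chevE7.group F)),
    chevE7.IsDiagonalAut d ∧ chevE7.IsFieldAut φ ∧ θ = MulAut.conj y * d * φ := by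
  obtain ⟨y, d, g, φ, hd, hg, hφ, e⟩ := Cfsg.Agent.H79.Steinberg.exists_fac_mul hpE7.inList θ
  obtain ⟨π, hπs, hπ⟩ := Cfsg.Agent.H79.OutChev.isGraphAut_isGr hpE7.inList hg
  obtain rfl := Cfsg.Agent.H79.DiagSymm.eq_one_E7 hπs
  have hg1 : g = 1 := Cfsg.Agent.H79.OutChev.isGr_one hπ
  exact ⟨y, d, φ, hd, hφ, by rw [e, hg1, mul_one]⟩

/-- **The diagonal case, `q` odd, from the bound on the centralisers in `Y^φ`.** -/
theorem diag_false (hr : r ≠ 2) (hq : Fintype.card F = r ^ e) {A : Subgroup ↥(chevE7.group F)}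
    {Γ : Subgroup (MulAut ↥(chevE7.group F))} (h : IF A Γ) (hO : Odd (Nat.card A))
    {σ : MulAut ↥(chevE7.group F)} (hσ : σ ∈ Γ) (h2 : orderOf σ = 2) {y : ↥(chevE7.group F)}
    {d : MulAut ↥(chevE7.group F)} (hd : chevE7.IsDiagonalAut d) (hs : σ = MulAut.conj y * d)
    (hbox : ∀ x : ↥(chevE7.group (kk F)), phi chevE7 (kk F) r e x = x → x * x = 1 →
      ∀ X : Subgroup ↥(fixC (phi chevE7 (kk F) r e) x), Odd (Nat.card X) → (r ^ e) ^ 28 ≤ X.index) : False := by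
  have hx : σ * σ = 1 := by rw [← pow_two, ← h2, pow_orderOf_eq_one]
  obtain ⟨x, hx1, hx2, hx3⟩ := exists_x r hq hx hd hs
  have h3 := transfer h hO hσ h2 (ee F) ee_inj (C := fixC (phi chevE7 (kk F) r e) x) (fun a => ?_) ?_
    (hbox x hx1 hx2)
  · have h4 := (Cfsg.Agent.H460.IFO.index_le_card A).trans (card_le F)
    rw [hq] at h4
    have hq3 : 3 ≤ r ^ e := by
      rw [← hq]
      have h5 : 1 < Fintype.card F := Fintype.one_lt_card
      have h6 : Fintype.card F ≠ 2 := by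
        intro h7
        have h8 := hq.symm.trans h7
        have : Odd (r ^ e) := ((Fact.out : r.Prime).odd_of_ne_two hr).pow
        rw [h8] at this
        exact absurd this (by decide)
      omega
    have h5 : ((r ^ e) ^ 28) ^ 6 < 64 * (r ^ e) ^ 133 := h3.trans_le (Nat.mul_le_mul_left _ h4)
    have h6 : ((r ^ e) ^ 28) ^ 6 = (r ^ e) ^ 35 * (r ^ e) ^ 133 := by rw [← pow_mul, ← pow_add]
    rw [h6] at h5
    have h7 : (r ^ e) ^ 35 < 64 := lt_of_mul_lt_mul_right h5 (Nat.zero_le _)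
    have h8 : 3 ^ 35 ≤ (r ^ e) ^ 35 := Nat.pow_le_pow_left hq3 35
    have h9 : 64 < 3 ^ 35 := by norm_num
    omega
  · rw [mem_fixC]
    constructor
    · rintro ⟨-, h4⟩
      apply ee_inj
      rw [hx3, ← h4]
      group
    · intro h4
      refine ⟨phi_ee r hq a, ?_⟩
      have h5 := hx3 a
      rw [h4] at h5
      conv_lhs => rw [h5]
      group
  · intro a ha b hb ha' hb'
    exact mul_mem_range r hq hr (mem_fixC.1 ha).1 (mem_fixC.1 hb).1 ha' hb'

end Cfsg.Agent.H708.E7O
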